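import Groth.Agent.SmoothDim.Basic

/-!
Dimension bounds and chart changes for the affine Bertini theorem.
-/

open MvPolynomial

universe u

namespace Groth.Agent.BertiniAff

/-- If a polynomial ring in `N` variables embeds in an algebra of finite type, its dimension is at least `N`. -/
theorem le_ringKrullDim_of_injective {k : Type u} [Field k] {B : Type u} [CommRing B] [Algebra k B]
    [Algebra.FiniteType k B] {σ : Type u} [Fintype σ] (g : MvPolynomial σ k →ₐ[k] B)
    (hg : Function.Injective g) : (Fintype.card σ : WithBot ℕ∞) ≤ ringKrullDim B := by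
  have hbot : (⊥ : Ideal (MvPolynomial σ k)) ∈ minimalPrimes (MvPolynomial σ k) := by
    rw [IsDomain.minimalPrimes_eq_singleton_bot]; rfl
  obtain ⟨P, hP, hPc⟩ :=
    Ideal.exists_comap_eq_of_mem_minimalPrimes_of_injective (f := g.toRingHom) hg _ hbot
  let h : MvPolynomial σ k →ₐ[k] B ⧸ P := (Ideal.Quotient.mkₐ k P).comp g
  have hinj : Function.Injective h := by
    refine (injective_iff_map_eq_zero h).2 fun x hx => ?_
    have : x ∈ P.comap g.toRingHom := Ideal.mem_comap.2 (Ideal.Quotient.eq_zero_iff_mem.1 hx)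
    rwa [hPc] at this
  obtain ⟨d, hd, htr⟩ := VarDim.exists_dim_eq_trdeg k (B ⧸ P)
  have h1 := trdeg_le_of_injective h hinj
  rw [MvPolynomial.trdeg_of_isDomain, htr] at h1
  have h2 : Fintype.card σ ≤ d := by simpa using h1
  calc (Fintype.card σ : WithBot ℕ∞) ≤ (d : WithBot ℕ∞) := by exact_mod_cast h2
    _ = ringKrullDim (B ⧸ P) := hd.symm
    _ ≤ ringKrullDim B := ringKrullDim_quotient_le P

theorem exists_isPrime_not_mem {A : Type u} [CommRing A] {f : A} [Nontrivial (Localization.Away f)] :
    ∃ P ∈ minimalPrimes A, f ∉ P := by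
  by_contra! h
  have : f ∈ nilradical A := by
    rw [nilradical_eq_sInf, Submodule.mem_sInf]
    intro P hP
    haveI : Ideal.IsPrime P := hP
    obtain ⟨Q, hQ, hQP⟩ := Ideal.exists_minimalPrimes_le (J := P) (I := ⊥) bot_le
    exact hQP (h Q hQ)
  obtain ⟨k, hk⟩ := this
  exact one_ne_zero (α := Localization.Away f) ((isUnit_zero_iff.1 (by
    have := (IsLocalization.Away.algebraMap_isUnit (S := Localization.Away f) f).pow k
    rwa [← map_pow, hk, map_zero] at this)).symm)

/-- For an equidimensional algebra of finite type every nonempty principal open has the same dimension. -/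
theorem ringKrullDim_away_eq (k : Type u) [Field k] (A : Type u) [CommRing A] [Algebra k A]
    [Algebra.FiniteType k A] (r : ℕ) (hdim : ∀ P ∈ minimalPrimes A, ringKrullDim (A ⧸ P) = r) (f : A)
    [Nontrivial (Localization.Away f)] : ringKrullDim (Localization.Away f) = r := by
  apply le_antisymm
  · refine (Order.krullDim_le_of_strictMono (PrimeSpectrum.comap (algebraMap A (Localization.Away f))) ?_).trans ?_
    · intro P Q hPQ
      exact lt_of_le_of_ne (Ideal.comap_mono hPQ.le) fun h =>
        hPQ.ne (PrimeSpectrum.localization_comap_injective _ (Submonoid.powers f) h)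
    refine iSup_le fun l => ?_
    obtain ⟨P, hP, hPl⟩ := Ideal.exists_minimalPrimes_le (J := l.head.asIdeal) (I := ⊥) bot_le
    have key : ∀ i, P ≤ (l.toFun i).asIdeal := fun i => hPl.trans (l.monotone (Fin.zero_le i))
    let l' : LTSeries (PrimeSpectrum (A ⧸ P)) := LTSeries.mk l.length
      (fun i => ⟨(l.toFun i).asIdeal.map (Ideal.Quotient.mk P),
        Ideal.map_isPrime_of_surjective Ideal.Quotient.mk_surjective (by rw [Ideal.mk_ker]; exact key i)⟩)
      (fun i j hij => by
        refine lt_of_le_of_ne (Ideal.map_mono (l.monotone hij.le)) fun h => ?_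
        have h' := congrArg (fun x : PrimeSpectrum (A ⧸ P) => x.asIdeal.comap (Ideal.Quotient.mk P)) h
        simp only [Ideal.comap_map_of_surjective _ Ideal.Quotient.mk_surjective, ← RingHom.ker_eq_comap_bot,
          Ideal.mk_ker, sup_eq_left.2 (key _)] at h'
        exact (l.strictMono hij).ne (PrimeSpectrum.ext h'))
    rw [← hdim P hP]
    exact Order.LTSeries.length_le_krullDim l'
  · obtain ⟨P, hP, hfP⟩ := exists_isPrime_not_mem (f := f)
    haveI : P.IsPrime := Ideal.minimalPrimes_isPrime hP
    obtain ⟨s, g, hinj, hint⟩ := exists_integral_inj_algHom_of_fg k (A ⧸ P)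
    have hs : ringKrullDim (A ⧸ P) = s := by
      letI : Algebra (MvPolynomial (Fin s) k) (A ⧸ P) := g.toRingHom.toAlgebra
      haveI : FaithfulSMul (MvPolynomial (Fin s) k) (A ⧸ P) := (faithfulSMul_iff_algebraMap_injective _ _).2 hinj
      haveI : Algebra.IsIntegral (MvPolynomial (Fin s) k) (A ⧸ P) := ⟨hint⟩
      rw [VarDim.ringKrullDim_eq_of_isIntegral (R := MvPolynomial (Fin s) k) (S := A ⧸ P),
        MvPolynomial.ringKrullDim_of_isNoetherianRing, ringKrullDim_eq_zero_of_field, zero_add, Nat.card_fin]
    have hsr : (s : WithBot ℕ∞) = r := hs.symm.trans (hdim P hP)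
    let fb := Ideal.Quotient.mk P f
    have hfb : fb ∈ nonZeroDivisors (A ⧸ P) :=
      mem_nonZeroDivisors_of_ne_zero fun h => hfP (Ideal.Quotient.eq_zero_iff_mem.1 h)
    have hj : Function.Injective (algebraMap (A ⧸ P) (Localization.Away fb)) :=
      IsLocalization.injective _ (Submonoid.powers_le.2 hfb)
    haveI : Algebra.FiniteType k (Localization.Away fb) :=
      Algebra.FiniteType.trans (S := A ⧸ P) inferInstance inferInstance
    let g₁ : MvPolynomial (ULift.{u} (Fin s)) k →ₐ[k] Localization.Away fb :=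
      ((IsScalarTower.toAlgHom k (A ⧸ P) (Localization.Away fb)).comp g).comp
        (renameEquiv k Equiv.ulift).toAlgHom
    have hg₁ : Function.Injective g₁ := (hj.comp hinj).comp (renameEquiv k Equiv.ulift).injective
    have h2 := le_ringKrullDim_of_injective g₁ hg₁
    rw [Fintype.card_ulift, Fintype.card_fin, hsr] at h2
    refine h2.trans (ringKrullDim_le_of_surjective
      (IsLocalization.Away.map (Localization.Away f) (Localization.Away fb) (Ideal.Quotient.mk P) f) ?_)
    intro y
    obtain ⟨a, ⟨_, n, rfl⟩, rfl⟩ := IsLocalization.exists_mk'_eq (Submonoid.powers fb) y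
    obtain ⟨a, rfl⟩ := Ideal.Quotient.mk_surjective a
    refine ⟨IsLocalization.mk' _ a (⟨f ^ n, n, rfl⟩ : Submonoid.powers f), ?_⟩
    simp [IsLocalization.Away.map, IsLocalization.map_mk', fb]

/-- Composites of principal localizations. -/
theorem exists_isLocalizationAway {A S : Type u} [CommRing A] [CommRing S] [Algebra A S] (f : A)
    [IsLocalization.Away f S] (t : S) (T : Type u) [CommRing T] [Algebra S T] [Algebra A T]
    [IsScalarTower A S T] [IsLocalization.Away t T] (p : Ideal A) [p.IsPrime] (P : Ideal S) [P.IsPrime]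
    (hP : P.comap (algebraMap A S) = p) (ht : t ∉ P) : ∃ F : A, F ∉ p ∧ IsLocalization.Away F T := by
  obtain ⟨t₀, ⟨_, n, rfl⟩, h⟩ := IsLocalization.exists_mk'_eq (Submonoid.powers f) t
  have hu : IsUnit (algebraMap A S (f ^ n)) := by
    rw [map_pow]; exact (IsLocalization.Away.algebraMap_isUnit f).pow n
  have he : t * algebraMap A S (f ^ n) = algebraMap A S t₀ := by
    rw [← h]; exact IsLocalization.mk'_spec _ _ _
  haveI : IsLocalization.Away (algebraMap A S t₀) T :=
    IsLocalization.Away.of_associated (r := t) (he ▸ (associated_mul_unit_right t _ hu))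
  refine ⟨f * t₀, fun hmem => ?_, IsLocalization.Away.mul' S T f t₀⟩
  rcases Ideal.IsPrime.mem_or_mem ‹p.IsPrime› hmem with hf | ht₀
  · rw [← hP, Ideal.mem_comap] at hf
    exact ‹P.IsPrime›.ne_top (Ideal.eq_top_of_isUnit_mem _ hf (IsLocalization.Away.algebraMap_isUnit f))
  · rw [← hP, Ideal.mem_comap, ← he] at ht₀
    exact ht ((Ideal.mul_unit_mem_iff_mem _ hu).1 ht₀)

end Groth.Agent.BertiniAff
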