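import Groth.Agent.BertiniAff.Bad
import Mathlib.RingTheory.Etale.Kaehler
import Mathlib.RingTheory.Smooth.Basic
import Mathlib.RingTheory.RingHom.LocallyStandardSmooth

/-!
A hypersurface with nowhere vanishing differential in a smooth algebra is smooth of one dimension less.
-/

open TensorProduct KaehlerDifferential

universe u

namespace Groth.Agent.BertiniAff

variable {k B : Type u} [CommRing k] [CommRing B] [Algebra k B] (h : B) (φ : Ω[B⁄k] →ₗ[B] B)
  (hφ : φ (D k B h) = 1)

include hφ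

theorem mapBaseChange_eq_zero_iff (w : (B ⧸ Ideal.span {h}) ⊗[B] Ω[B⁄k]) :
    mapBaseChange k B (B ⧸ Ideal.span {h}) w = 0 ↔
      ∃ c : B ⧸ Ideal.span {h}, w = c ⊗ₜ D k B h := by
  have hs : Function.Surjective (algebraMap B (B ⧸ Ideal.span {h})) := Ideal.Quotient.mk_surjective
  refine ⟨fun hw => ?_, ?_⟩
  · obtain ⟨z, rfl⟩ := (exact_kerCotangentToTensor_mapBaseChange k B (B ⧸ Ideal.span {h}) hs w).1 hw
    obtain ⟨⟨z, hz⟩, rfl⟩ := Ideal.toCotangent_surjective _ z
    rw [Ideal.Quotient.algebraMap_eq, Ideal.mk_ker, Ideal.mem_span_singleton'] at hz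
    obtain ⟨b, rfl⟩ := hz
    refine ⟨algebraMap B _ b, ?_⟩
    rw [kerCotangentToTensor_toCotangent]
    have h0 : (algebraMap B (B ⧸ Ideal.span {h}) h) = 0 :=
      Ideal.Quotient.eq_zero_iff_mem.2 (Ideal.mem_span_singleton_self h)
    rw [Derivation.leibniz, TensorProduct.tmul_add, TensorProduct.tmul_smul, TensorProduct.tmul_smul,
      TensorProduct.smul_tmul', TensorProduct.smul_tmul', Algebra.smul_def, Algebra.smul_def, mul_one, mul_one, h0,
      TensorProduct.zero_tmul, add_zero]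
  · rintro ⟨c, rfl⟩
    rw [mapBaseChange_tmul, map_D, show algebraMap B (B ⧸ Ideal.span {h}) h = 0 from
      Ideal.Quotient.eq_zero_iff_mem.2 (Ideal.mem_span_singleton_self h), map_zero, smul_zero]

theorem formallySmooth_quotient [Algebra.FormallySmooth k B] :
    Algebra.FormallySmooth k (B ⧸ Ideal.span {h}) := by
  have hs : Function.Surjective (algebraMap B (B ⧸ Ideal.span {h})) := Ideal.Quotient.mk_surjective
  let I := RingHom.ker (algebraMap B (B ⧸ Ideal.span {h}))
  have hI : h ∈ I := Ideal.Quotient.eq_zero_iff_mem.2 (Ideal.mem_span_singleton_self h)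
  let hb : I.Cotangent := I.toCotangent ⟨h, hI⟩
  have hhb : ∀ b ∈ I, b • hb = 0 := fun b hb' => by
    rw [← map_smul, Ideal.toCotangent_eq_zero, pow_two]
    exact Ideal.mul_mem_mul hb' hI
  let μ : (B ⧸ Ideal.span {h}) →ₗ[B] I.Cotangent :=
    Submodule.liftQ (Ideal.span {h}) (LinearMap.toSpanSingleton B _ hb) fun b hb' => by
      rw [LinearMap.mem_ker, LinearMap.toSpanSingleton_apply]
      exact hhb b (Ideal.Quotient.eq_zero_iff_mem.2 hb')
  let l : (B ⧸ Ideal.span {h}) ⊗[B] Ω[B⁄k] →ₗ[B] I.Cotangent :=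
    μ ∘ₗ (TensorProduct.rid B (B ⧸ Ideal.span {h})).toLinearMap ∘ₗ φ.lTensor _
  refine (Algebra.FormallySmooth.iff_split_injection (P := B) hs).2 ⟨l, ?_⟩
  refine LinearMap.ext fun z => ?_
  obtain ⟨⟨z, hz⟩, rfl⟩ := Ideal.toCotangent_surjective _ z
  rw [LinearMap.comp_apply, kerCotangentToTensor_toCotangent]
  have hz' := hz
  rw [Ideal.Quotient.algebraMap_eq, Ideal.mk_ker, Ideal.mem_span_singleton'] at hz'
  obtain ⟨b, rfl⟩ := hz'
  show μ (φ (D k B (b * h)) • (1 : B ⧸ Ideal.span {h})) = _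
  rw [map_smul, Derivation.leibniz, map_add, map_smul, map_smul, hφ, smul_eq_mul, smul_eq_mul, mul_one,
    add_smul, mul_comm h, mul_smul _ h, show μ 1 = (1 : B) • hb from rfl, one_smul, hhb h hI, smul_zero, add_zero,
    LinearMap.id_apply, ← map_smul]
  rfl

omit hφ in
theorem finrank_kaehler {k B : Type u} [Field k] [CommRing B] [Algebra k B] [Nontrivial B] (m : ℕ)
    [Algebra.IsStandardSmoothOfRelativeDimension m k B] : Module.finrank B Ω[B⁄k] = m :=
  Module.finrank_eq_of_rank_eq (Algebra.IsStandardSmoothOfRelativeDimension.rank_kaehlerDifferential m)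

omit hφ in
theorem finite_kaehler {k B : Type u} [Field k] [CommRing B] [Algebra k B]
    [Algebra.IsStandardSmooth k B] : Module.Finite B Ω[B⁄k] := inferInstance

end Groth.Agent.BertiniAff

namespace Groth.Agent.BertiniAff

/-- The standard smooth charts of the quotient have relative dimension one less. -/
theorem exists_chart {k B : Type u} [Field k] [CommRing B] [Algebra k B] (m : ℕ)
    [Algebra.IsStandardSmoothOfRelativeDimension m k B] (h : B) (φ : Ω[B⁄k] →ₗ[B] B)
    (hφ : φ (D k B h) = 1) (P : Ideal (B ⧸ Ideal.span {h})) [P.IsPrime] :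
    1 ≤ m ∧ ∃ t : B ⧸ Ideal.span {h}, t ∉ P ∧
      Algebra.IsStandardSmoothOfRelativeDimension (m - 1) k (Localization.Away t) := by
  haveI : Algebra.IsStandardSmooth k B := Algebra.IsStandardSmoothOfRelativeDimension.isStandardSmooth m
  haveI : Algebra.Smooth k B := inferInstance
  let C := B ⧸ Ideal.span {h}
  haveI : Algebra.FormallySmooth k C := formallySmooth_quotient h φ hφ
  haveI : Algebra.FinitePresentation k C :=
    Algebra.FinitePresentation.quotient ⟨{h}, by simp⟩
  haveI : Algebra.Smooth k C := ⟨inferInstance, inferInstance⟩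
  obtain ⟨s, hs, H⟩ := RingHom.Smooth.locally_isStandardSmooth
    (f := algebraMap k C) (RingHom.smooth_algebraMap.2 inferInstance)
  obtain ⟨t, hts, htP⟩ : ∃ t ∈ s, t ∉ P := by
    by_contra! hc
    exact ‹P.IsPrime›.ne_top (top_le_iff.1 (hs ▸ Ideal.span_le.2 hc))
  have hst := H t hts
  let G := Localization.Away t
  have hG : Algebra.IsStandardSmooth k G := by
    rw [← RingHom.isStandardSmooth_algebraMap, IsScalarTower.algebraMap_eq k C G]
    exact hst
  haveI : Nontrivial C := Ideal.Quotient.nontrivial_iff.2 fun htop => by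
    have : Subsingleton (B ⧸ Ideal.span {h}) := Ideal.Quotient.subsingleton_iff.2 htop
    exact ‹P.IsPrime›.ne_top (Ideal.eq_top_iff_one _ |>.2 (Subsingleton.elim (0 : C) 1 ▸ P.zero_mem))
  haveI : Nontrivial G := by
    by_contra hn
    rw [not_nontrivial_iff_subsingleton] at hn
    obtain ⟨⟨_, n, rfl⟩, hn'⟩ :=
      (IsLocalization.eq_iff_exists (Submonoid.powers t) G).1 (Subsingleton.elim (algebraMap C G 1) (algebraMap C G 0))
    rw [mul_one, mul_zero] at hn'
    have hn'' : t ^ n = 0 := hn'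
    exact htP (‹P.IsPrime›.mem_of_pow_mem n (hn'' ▸ P.zero_mem))
  haveI : Nontrivial B := (algebraMap B C).domain_nontrivial
  -- `C ⊗ Ω_B ≅ C × Ω_C`
  let φC : C ⊗[B] Ω[B⁄k] →ₗ[C] C :=
    (TensorProduct.AlgebraTensorModule.rid B C C).toLinearMap ∘ₗ φ.baseChange C
  have hv : ∀ c : C, φC (c ⊗ₜ D k B h) = c := fun c => by simp [φC, hφ]
  let e : C ⊗[B] Ω[B⁄k] →ₗ[C] C × Ω[C⁄k] := φC.prod (mapBaseChange k B C)
  have he : Function.Bijective e := by
    refine ⟨(injective_iff_map_eq_zero e).2 fun w hw => ?_, fun ⟨c, ω⟩ => ?_⟩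
    · obtain ⟨c, rfl⟩ := (mapBaseChange_eq_zero_iff h φ hφ w).1 (congrArg Prod.snd hw)
      have : φC (c ⊗ₜ D k B h) = 0 := congrArg Prod.fst hw
      rw [hv] at this
      rw [this, TensorProduct.zero_tmul]
    · obtain ⟨w, rfl⟩ := mapBaseChange_surjective k B C Ideal.Quotient.mk_surjective ω
      refine ⟨w + (c - φC w) ⊗ₜ D k B h, Prod.ext ?_ ?_⟩
      · show φC _ = c
        rw [map_add, hv, add_sub_cancel]
      · show mapBaseChange k B C _ = _
        rw [map_add, (mapBaseChange_eq_zero_iff h φ hφ ((c - φC w) ⊗ₜ D k B h)).2 ⟨_, rfl⟩, add_zero]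
  let e' : G ⊗[C] (C ⊗[B] Ω[B⁄k]) ≃ₗ[G] (G ⊗[C] C) × (G ⊗[C] Ω[C⁄k]) :=
    (TensorProduct.AlgebraTensorModule.congr (LinearEquiv.refl G G) (LinearEquiv.ofBijective e he)).trans
      (TensorProduct.prodRight C G G C Ω[C⁄k])
  haveI : Algebra.FormallyEtale C G := Algebra.FormallyEtale.of_isLocalization (Submonoid.powers t)
  let eG : G ⊗[C] Ω[C⁄k] ≃ₗ[G] Ω[G⁄k] := tensorKaehlerEquivOfFormallyEtale k C G
  haveI : Module.Free G Ω[G⁄k] := inferInstance
  haveI : Module.Finite G Ω[G⁄k] := inferInstance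
  haveI : Module.Free G (G ⊗[C] Ω[C⁄k]) := Module.Free.of_equiv eG.symm
  haveI : Module.Finite G (G ⊗[C] Ω[C⁄k]) := Module.Finite.equiv eG.symm
  have hfr := e'.finrank_eq
  rw [Module.finrank_baseChange, Module.finrank_baseChange, Module.finrank_prod, Module.finrank_baseChange,
    Module.finrank_self, finrank_kaehler m, eG.finrank_eq] at hfr
  refine ⟨by omega, t, htP, ?_⟩
  haveI := hG
  rw [Algebra.IsStandardSmoothOfRelativeDimension.iff_of_isStandardSmooth (R := k) (S := G),
    ← Module.finrank_eq_rank]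
  exact congrArg Nat.cast (by omega)

end Groth.Agent.BertiniAff
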