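import Groth.Agent.BertiniAff.Basic
import Mathlib.RingTheory.Smooth.StandardSmoothCotangent
import Mathlib.LinearAlgebra.Matrix.NonsingularInverse

/-!
The coefficient vectors of hyperplanes touching a standard smooth chart satisfy a polynomial equation.
-/

open MvPolynomial Matrix

universe u

namespace Groth.Agent.BertiniAff

variable {k : Type u} [Field k]

/-- A surjective system of `p` linear equations over `B` in `q` unknowns, with `dim B < p`, has
`k`-rational solutions only on a proper closed subset of `kⁿ`. -/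
theorem exists_ne_zero_eval {B : Type u} [CommRing B] [Algebra k B] [Algebra.FiniteType k B] (m : ℕ)
    (hB : ringKrullDim B ≤ m) (σ τ : Type u) [Fintype σ] [Fintype τ] [DecidableEq σ] [DecidableEq τ]
    (hσ : m < Fintype.card σ) (M : Matrix σ τ B) (N : Matrix τ σ B) (hMN : M * N = 1) :
    ∃ g : MvPolynomial τ k, g ≠ 0 ∧ ∀ (a : τ → k) (K : Type u) [Field K] [Algebra k K] (ev : B →ₐ[k] K),
      M.map ev *ᵥ (algebraMap k K ∘ a) = 0 → MvPolynomial.eval a g = 0 := by
  let P : Matrix τ τ B := 1 - N * M
  let T : τ → MvPolynomial τ B := fun i => MvPolynomial.X i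
  let θ : MvPolynomial τ k →ₐ[k] MvPolynomial τ B :=
    MvPolynomial.aeval fun i => (P.map MvPolynomial.C *ᵥ T) i
  have hθ : ¬ Function.Injective θ := by
    intro hinj
    let η : MvPolynomial (σ ⊕ τ) k →ₐ[k] MvPolynomial τ B :=
      MvPolynomial.aeval (Sum.elim (M.map MvPolynomial.C *ᵥ T) (P.map MvPolynomial.C *ᵥ T))
    let S : σ → MvPolynomial σ (MvPolynomial τ B) := fun j => MvPolynomial.X j
    let CC : B →+* MvPolynomial σ (MvPolynomial τ B) := MvPolynomial.C.comp MvPolynomial.C
    let T' : τ → MvPolynomial σ (MvPolynomial τ B) :=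
      (fun i => MvPolynomial.C ((P.map MvPolynomial.C *ᵥ T) i)) + N.map CC *ᵥ S
    let Ψ : MvPolynomial τ B →ₐ[B] MvPolynomial σ (MvPolynomial τ B) := MvPolynomial.aeval T'
    have hΨ : ∀ {ι : Type u} (Q : Matrix ι τ B) (i : ι),
        Ψ ((Q.map MvPolynomial.C *ᵥ T) i) = (Q.map CC *ᵥ T') i := by
      intro ι Q i
      simp only [mulVec, dotProduct, map_sum, map_mul, Matrix.map_apply]
      refine Finset.sum_congr rfl fun j _ => ?_
      congr 1
      · exact MvPolynomial.aeval_C _ _
      · exact MvPolynomial.aeval_X _ _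
    have hT' : T' = P.map CC *ᵥ (fun i => MvPolynomial.C (T i)) + N.map CC *ᵥ S := by
      refine congrArg (· + _) (_root_.funext fun i => ?_)
      simp only [mulVec, dotProduct, map_sum, map_mul, Matrix.map_apply, CC, RingHom.comp_apply]
    have hMP : M * P = 0 := by
      rw [Matrix.mul_sub, Matrix.mul_one, ← Matrix.mul_assoc, hMN, Matrix.one_mul, sub_self]
    have hPN : P * N = 0 := by
      rw [Matrix.sub_mul, Matrix.one_mul, Matrix.mul_assoc, hMN, Matrix.mul_one, sub_self]
    have hPP : P * P = P := by
      conv_lhs => arg 2; rw [show P = 1 - N * M from rfl]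
      rw [Matrix.mul_sub, Matrix.mul_one, ← Matrix.mul_assoc, hPN, Matrix.zero_mul, sub_zero]
    have hl : ∀ i, Ψ (η (MvPolynomial.X (Sum.inl i))) = S i := fun i => by
      rw [MvPolynomial.aeval_X, Sum.elim_inl, hΨ, hT', mulVec_add, mulVec_mulVec, mulVec_mulVec,
        ← Matrix.map_mul, ← Matrix.map_mul, hMP, hMN, Matrix.map_zero _ (map_zero CC),
        Matrix.map_one _ (map_zero CC) (map_one CC), zero_mulVec, one_mulVec, zero_add]
    have hr : ∀ i, Ψ (η (MvPolynomial.X (Sum.inr i))) = MvPolynomial.C (θ (MvPolynomial.X i)) := fun i => by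
      rw [MvPolynomial.aeval_X, Sum.elim_inr, hΨ, hT', mulVec_add, mulVec_mulVec, mulVec_mulVec,
        ← Matrix.map_mul, ← Matrix.map_mul, hPP, hPN, Matrix.map_zero _ (map_zero CC), zero_mulVec, add_zero,
        MvPolynomial.aeval_X]
      simp only [mulVec, dotProduct, map_sum, map_mul, Matrix.map_apply, CC, RingHom.comp_apply]
    have key : (Ψ.restrictScalars k).comp η = AlgHom.comp
        ((MvPolynomial.mapAlgHom θ : MvPolynomial σ (MvPolynomial τ k) →ₐ[k] MvPolynomial σ (MvPolynomial τ B)))
        (MvPolynomial.sumAlgEquiv k σ τ).toAlgHom := by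
      refine MvPolynomial.algHom_ext fun i => ?_
      rcases i with i | i
      · rw [AlgHom.comp_apply, AlgHom.restrictScalars_apply, hl]
        simp [S]
      · rw [AlgHom.comp_apply, AlgHom.restrictScalars_apply, hr]
        simp
    have hη : Function.Injective η := by
      refine Function.Injective.of_comp (f := (Ψ.restrictScalars k)) ?_
      rw [← AlgHom.coe_comp, key, AlgHom.coe_comp]
      exact (MvPolynomial.map_injective θ.toRingHom hinj).comp (MvPolynomial.sumAlgEquiv k σ τ).injective
    haveI : IsNoetherianRing B := Algebra.FiniteType.isNoetherianRing k B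
    haveI : Algebra.FiniteType k (MvPolynomial τ B) := Algebra.FiniteType.trans (S := B) inferInstance inferInstance
    have h := le_ringKrullDim_of_injective η hη
    rw [MvPolynomial.ringKrullDim_of_isNoetherianRing, Fintype.card_sum, Nat.card_eq_fintype_card] at h
    have h' := h.trans (add_le_add_left hB _)
    norm_cast at h'
    omega
  rw [injective_iff_map_eq_zero] at hθ
  push Not at hθ
  obtain ⟨g, hg, hg0⟩ := hθ
  refine ⟨g, hg0, fun a K _ _ ev hev => ?_⟩
  let ā : τ → K := algebraMap k K ∘ a
  let E : MvPolynomial τ B →+* K := MvPolynomial.eval₂Hom ev.toRingHom ā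
  have hP : P.map ev *ᵥ ā = ā := by
    have : P.map ev = 1 - N.map ev * M.map ev := by
      rw [show P = 1 - N * M from rfl, Matrix.map_sub _ (map_sub ev), Matrix.map_one _ (map_zero ev) (map_one ev),
        Matrix.map_mul]
    rw [this, sub_mulVec, one_mulVec, ← mulVec_mulVec, hev, mulVec_zero, sub_zero]
  have hE : ∀ q, E (θ q) = algebraMap k K (MvPolynomial.eval a q) := by
    intro q
    induction q using MvPolynomial.induction_on with
    | C c => simp [θ, E, IsScalarTower.algebraMap_apply k B (MvPolynomial τ B)]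
    | add p q hp hq => simp [map_add, hp, hq]
    | mul_X p i hp =>
      rw [map_mul, map_mul, hp, MvPolynomial.aeval_X, map_mul, map_mul, MvPolynomial.eval_X]
      congr 1
      refine Eq.trans ?_ (congrFun hP i)
      simp [E, mulVec, dotProduct, T]
  have := hE g
  rw [hg, map_zero] at this
  exact (map_eq_zero _).1 this.symm

end Groth.Agent.BertiniAff
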