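import Groth.Agent.BertiniAff.Quot

/-!
Charts for the affine Bertini theorem.
-/

open TensorProduct KaehlerDifferential MvPolynomial

universe u

namespace Groth.Agent.BertiniAff

variable {k : Type u} [Field k] {A : Type u} [CommRing A] [Algebra k A]

/-- A smooth point of an equidimensional algebra has a standard smooth chart of that relative dimension. -/
theorem exists_standard_chart [Algebra.FiniteType k A] (r : ℕ)
    (hdim : ∀ P ∈ minimalPrimes A, ringKrullDim (A ⧸ P) = r) (p : Ideal A) [hp : p.IsPrime] (f : A)
    (hf : f ∉ p) (hsm : (algebraMap k (Localization.Away f)).Smooth) :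
    ∃ F : A, F ∉ p ∧ Nontrivial (Localization.Away F) ∧
      Algebra.IsStandardSmoothOfRelativeDimension r k (Localization.Away F) := by
  let S := Localization.Away f
  have hdisj : Disjoint (Submonoid.powers f : Set A) p :=
    (Ideal.disjoint_powers_iff_notMem f hp.isRadical).2 hf
  let P : Ideal S := p.map (algebraMap A S)
  haveI : P.IsPrime := IsLocalization.isPrime_of_isPrime_disjoint (Submonoid.powers f) S p hp hdisj
  have hP : P.comap (algebraMap A S) = p :=
    IsLocalization.comap_map_of_isPrime_disjoint (Submonoid.powers f) S hp hdisj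
  obtain ⟨s, hs, H⟩ := RingHom.Smooth.locally_isStandardSmooth hsm
  obtain ⟨t, hts, htP⟩ : ∃ t ∈ s, t ∉ P := by
    by_contra! hc
    exact ‹P.IsPrime›.ne_top (top_le_iff.1 (hs ▸ Ideal.span_le.2 hc))
  have hG : Algebra.IsStandardSmooth k (Localization.Away t) := by
    rw [← RingHom.isStandardSmooth_algebraMap, IsScalarTower.algebraMap_eq k S (Localization.Away t)]
    exact H t hts
  obtain ⟨F, hF, hFloc⟩ := exists_isLocalizationAway f t (Localization.Away t) p P hP htP
  haveI : Nontrivial (Localization.Away F) := by
    by_contra hn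
    rw [not_nontrivial_iff_subsingleton] at hn
    obtain ⟨⟨_, n, rfl⟩, hn'⟩ := (IsLocalization.eq_iff_exists (Submonoid.powers F) (Localization.Away F)).1
      (Subsingleton.elim (algebraMap A _ 1) (algebraMap A (Localization.Away F) 0))
    rw [_root_.mul_one, mul_zero] at hn'
    have hn'' : F ^ n = 0 := hn'
    exact hF (hp.mem_of_pow_mem n (hn'' ▸ p.zero_mem))
  let e : Localization.Away t ≃ₐ[k] Localization.Away F :=
    (IsLocalization.algEquiv (Submonoid.powers F) (Localization.Away t) (Localization.Away F)).restrictScalars k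
  obtain ⟨ι, σ, _, _, ⟨Q⟩⟩ := hG.out
  haveI : Algebra.IsStandardSmoothOfRelativeDimension Q.dimension k (Localization.Away t) :=
    Q.isStandardSmoothOfRelativeDimension rfl
  haveI := Algebra.IsStandardSmoothOfRelativeDimension.of_algEquiv (n := Q.dimension) e
  have h1 := SmoothDim.ringKrullDim_eq k (Localization.Away F) Q.dimension
  rw [ringKrullDim_away_eq k A r hdim F] at h1
  have h2 : r = Q.dimension := by exact_mod_cast h1
  exact ⟨F, hF, inferInstance, by rw [h2]; infer_instance⟩

/-- The hyperplanes touching a chart lie in a proper closed subset. -/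
theorem exists_bad {n : ℕ} (r : ℕ) (x : Fin n → A)
    (hx : Function.Surjective (MvPolynomial.aeval x : MvPolynomial (Fin n) k →ₐ[k] A)) (F : A)
    [Nontrivial (Localization.Away F)]
    [Algebra.IsStandardSmoothOfRelativeDimension r k (Localization.Away F)] :
    ∃ g : MvPolynomial (Fin (n + 1)) k, g ≠ 0 ∧ ∀ a : Fin (n + 1) → k, MvPolynomial.eval a g ≠ 0 →
      ∀ v : Ideal (Localization.Away F), v.IsPrime →
        algebraMap A (Localization.Away F) (algebraMap k A (a 0) + ∑ i : Fin n, algebraMap k A (a i.succ) * x i) ∈ v →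
        ∃ φ : Ω[Localization.Away F⁄k] →ₗ[Localization.Away F] Localization.Away F,
          φ (D k _ (algebraMap A (Localization.Away F)
            (algebraMap k A (a 0) + ∑ i : Fin n, algebraMap k A (a i.succ) * x i))) ∉ v := by
  let B := Localization.Away F
  haveI : Algebra.IsStandardSmooth k B := Algebra.IsStandardSmoothOfRelativeDimension.isStandardSmooth r
  haveI : Algebra.FiniteType k A := Algebra.FiniteType.of_surjective _ hx
  haveI : Algebra.FiniteType k B := Algebra.FiniteType.trans (S := A) inferInstance inferInstance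
  let b : Module.Basis (Fin r) B Ω[B⁄k] := Module.finBasisOfFinrankEq B _ (finrank_kaehler r)
  let xB : Fin n → B := fun i => algebraMap A B (x i)
  -- the differentials of the coordinates generate
  have hspan : Submodule.span B (Set.range fun i => D k B (xB i)) = ⊤ := by
    set S := Submodule.span B (Set.range fun i => D k B (xB i)) with hS
    have h1 : ∀ a : A, D k B (algebraMap A B a) ∈ S := by
      intro a
      obtain ⟨q, rfl⟩ := hx a
      induction q using MvPolynomial.induction_on with
      | C c =>
        rw [MvPolynomial.aeval_C, ← IsScalarTower.algebraMap_apply, Derivation.map_algebraMap]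
        exact S.zero_mem
      | add p q hp hq => rw [map_add, map_add, map_add]; exact S.add_mem hp hq
      | mul_X p i hp =>
        rw [map_mul, map_mul, MvPolynomial.aeval_X, Derivation.leibniz]
        exact S.add_mem (S.smul_mem _ (Submodule.subset_span ⟨i, rfl⟩)) (S.smul_mem _ hp)
    rw [eq_top_iff, ← span_range_map_derivation_of_isLocalization (R := k) (S := A) (T := B) (Submonoid.powers F),
      Submodule.span_le]
    rintro _ ⟨a, rfl⟩
    rw [Function.comp_apply, KaehlerDifferential.map_D]
    exact h1 a
  let σ := ULift.{u} (Option (Fin r))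
  let τ := ULift.{u} (Fin (n + 1))
  let M : Matrix σ τ B := fun j i =>
    Option.elim j.down (Fin.cons (α := fun _ => B) 1 xB i.down)
      (fun l => Fin.cons (α := fun _ => B) 0 (fun i => b.repr (D k B (xB i)) l) i.down)
  have hM0 : ∀ (c : τ → B), (Matrix.mulVec M c) ⟨none⟩ = c ⟨0⟩ + ∑ i, c ⟨i.succ⟩ * xB i := fun c => by
    simp only [Matrix.mulVec, dotProduct, M, Option.elim_none]
    rw [← Equiv.ulift.symm.sum_comp, Fin.sum_univ_succ]
    simp [mul_comm]
  have hMs : ∀ (c : τ → B) (l : Fin r),
      (Matrix.mulVec M c) ⟨some l⟩ = b.repr (∑ i, c ⟨i.succ⟩ • D k B (xB i)) l := fun c l => by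
    simp only [Matrix.mulVec, dotProduct, M, Option.elim_some]
    rw [← Equiv.ulift.symm.sum_comp, Fin.sum_univ_succ]
    simp [mul_comm]
  have hsurj : Function.Surjective M.mulVec := by
    intro y
    have hw : ∑ l, y ⟨some l⟩ • b l ∈ Submodule.span B (Set.range fun i => D k B (xB i)) := hspan ▸ trivial
    obtain ⟨c, hc⟩ := (Submodule.mem_span_range_iff_exists_fun B).1 hw
    refine ⟨fun i => Fin.cons (α := fun _ => B) (y ⟨none⟩ - ∑ i, c i * xB i) c i.down, ?_⟩
    funext j
    obtain ⟨j⟩ := j
    rcases j with _ | l
    · rw [hM0]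
      simp
    · rw [hMs]
      simp only [Fin.cons_succ, hc, map_sum, map_smul, Finsupp.coe_finsetSum, Finset.sum_apply,
        Module.Basis.repr_self, Finsupp.smul_apply, smul_eq_mul, Finsupp.single_apply]
      simp
  classical
  obtain ⟨N, hN⟩ := Matrix.mulVec_surjective_iff_exists_right_inverse.1 hsurj
  obtain ⟨g, hg0, hg⟩ := exists_ne_zero_eval (k := k) r (SmoothDim.ringKrullDim_eq k B r).le σ τ
    (by simp [σ]) M N hN
  refine ⟨MvPolynomial.renameEquiv k Equiv.ulift g, (map_ne_zero_iff _ (AlgEquiv.injective _)).2 hg0,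
    fun a ha v hv hmem => ?_⟩
  by_contra! hall
  refine ha ?_
  rw [MvPolynomial.renameEquiv_apply, MvPolynomial.eval_rename]
  let aB : τ → B := fun i => algebraMap k B (a i.down)
  set hB := algebraMap A B (algebraMap k A (a 0) + ∑ i : Fin n, algebraMap k A (a i.succ) * x i) with hhB
  have hB' : hB = algebraMap k B (a 0) + ∑ i, algebraMap k B (a i.succ) * xB i := by
    simp only [hhB, map_add, map_sum, map_mul, xB, ← IsScalarTower.algebraMap_apply]
  have hvec : ∀ j, Matrix.mulVec M aB j ∈ v := by
    rintro ⟨_ | l⟩
    · rw [hM0, ← hB']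
      exact hmem
    · rw [hMs]
      have : ∑ i, aB ⟨i.succ⟩ • D k B (xB i) = D k B hB := by
        rw [hB', map_add, Derivation.map_algebraMap, zero_add, map_sum]
        refine Finset.sum_congr rfl fun i _ => ?_
        rw [Derivation.leibniz, Derivation.map_algebraMap, smul_zero, add_zero]
      rw [this]
      exact hall (b.coord l)
  let ev : B →ₐ[k] v.ResidueField := IsScalarTower.toAlgHom k B _
  refine hg (a ∘ Equiv.ulift) v.ResidueField ev (_root_.funext fun j => ?_)
  have h2 := RingHom.map_mulVec ev.toRingHom M aB j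
  have h3 : ev.toRingHom (Matrix.mulVec M aB j) = 0 := by
    show algebraMap B v.ResidueField _ = 0
    exact Ideal.algebraMap_residueField_eq_zero.2 (hvec j)
  rw [h3] at h2
  refine Eq.trans ?_ h2.symm
  refine congrArg (fun w => Matrix.mulVec (M.map ev) w j) (_root_.funext fun i => ?_)
  exact (ev.commutes _).symm

end Groth.Agent.BertiniAff
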